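import Cfsg.Agent.Lib.ES.S0b
import Cfsg.Agent.Lib.ES.Z1

/-!
# ES: a collector for words in the `x_k(1)`, and certificates for `Gd`.
-/

set_option autoImplicit false
set_option linter.unusedSectionVars false

noncomputable section

namespace Cfsg.Lib.ES.Ck

open Subgroup Cfsg.Lib.Chev Cfsg.Lib.BG Cfsg.Lib.GW Cfsg.Lib.EG Cfsg.Lib.BN
open scoped Cfsg.Lib.Transfer commutatorElement

/-- Letters: a sort key, the coefficients and the pairings with the simple roots. -/
abbrev V := ℤ × List (ℤ × ℤ)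

def dt (a : List (ℤ × ℤ)) : List (ℤ × ℤ) → ℤ :=
  List.rec (fun _ => 0) (fun x _ ih b => List.rec 0 (fun y b _ => Int.add (Int.mul x.1 y.2) (ih b)) b) a
def ad (a : List (ℤ × ℤ)) : List (ℤ × ℤ) → List (ℤ × ℤ) :=
  List.rec (fun _ => []) (fun x _ ih b => List.rec [] (fun y b _ => (Int.add x.1 y.1, Int.add x.2 y.2) :: ih b) b) a
def va (a b : V) : V := (Int.add a.1 b.1, ad a.2 b.2)
def hv (a : V) : ℤ := List.rec 0 (fun x _ ih => Int.add x.1 ih) a.2
/-- Multiply a collected word by a letter. -/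
def ins (n : ℕ) : V → List V → List V := Nat.rec (fun a w => a :: w) (fun _ ih a w => List.rec [a] (fun b w' _ =>
  cond (decide (a.1 < b.1)) (a :: w) (cond (decide (0 ≤ dt a.2 b.2)) (cond (decide (a = b)) w' (b :: ih a w'))
    (cond (decide (dt a.2 b.2 = -1)) (b :: ih a (ih (va a b) w')) (a :: w)))) w) n
def nf (w : List V) : List V := List.rec [] (fun a _ ih => ins 64 a ih) w
/-- Conjugate by a letter. -/
def ps (j : V) (w : List V) : Option (List V) := List.rec (some []) (fun b _ ih => cond (decide (0 ≤ dt j.2 b.2)) (ih.map (ins 64 b))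
  (cond (decide (dt j.2 b.2 = -1)) (ih.map fun w => ins 64 (va j b) (ins 64 b w)) none)) w
def cj (g w : List V) : Option (List V) := List.rec (some (nf w)) (fun j _ ih => ih.bind (ps j)) g
def ce (g w w' : List V) : Bool := decide (cj g w = some (nf w'))
def cm (a y : List V) : Option (List V) := (cj y a.reverse).map fun b => nf (a ++ b)

/-- Instructions producing elements of `N`. -/
inductive Ins
  | T (a g h : List ℕ)
  | J (g : List ℕ) (i : ℕ)
  | C (g : List ℕ) (i : ℕ)
  | M (i j : ℕ)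

def step (f : ℕ → V) (u : List V) (L : List (List V)) : Ins → Option (List V)
  | .T a g h => (cj (g.map f) (a.map f)).bind fun b => cond (ce (a.map f) u u && ce (g.map f) u u && ce (h.map f) u u &&
      ce [] (a.map f ++ a.map f) [] && ce (h.map f) (a.map f) (a.map f ++ b)) (some (a.map f)) none
  | .J g i => cond (ce (g.map f) u u) (cj (g.map f) (L.getD i [])) none
  | .C g i => cond (ce (g.map f) u u) ((cj (g.map f) (L.getD i [])).map fun b => nf (b ++ (L.getD i []).reverse)) none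
  | .M i j => some (nf (L.getD i [] ++ L.getD j []))
def run (f : ℕ → V) (u : List V) (p : List Ins) : Option (List (List V)) :=
  p.foldl (fun o x => o.bind fun L => (step f u L x).map fun w => L ++ [w]) (some [])

/-- A certificate for one class. -/
structure Cls where
  u0 : List ℕ
  g0 : List ℕ
  u : List ℕ
  m : List ℕ
  p : List Ins
  v : ℕ
  ys : List ℕ

def chk (f : ℕ → V) (θ : ℕ) (n m : ℤ) (c : Cls) : Bool :=
  ce (c.g0.map f) (c.u0.map f) (c.u.map f) && ce (c.m.map f) (c.u.map f) (c.u.map f ++ [f θ]) && c.u.all (fun k => decide (0 < hv (f k) ∧ m ≤ hv (f k))) &&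
    decide (n ≤ (c.ys.length : ℤ) + 1) && ((run f (c.u.map f) c.p).map fun L => (c.v :: c.ys).all (fun i => (L.getD i []).all fun a => decide (0 < hv a)) &&
      decide (c.ys.foldl (fun o i => o.bind fun a => cm a (L.getD i [])) (some (L.getD c.v [])) = some [f θ])).getD false

variable {n : ℕ} {Φ : Type} [Fintype Φ] {R : RootSys (Fin n) Φ} {θ : Φ} {i₀ : Fin n}
  {F G : Type*} [Field F] [Finite F] [CharP F 2] [Group G] [Finite G] {C : ChevSys R F G} {g g' h : G} {v w w' : List V} {a b : Φ}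

/-- The letter of a root. -/
def vec (R : RootSys (Fin n) Φ) (k : Φ) : V := (∑ i, R.α k i * 16 ^ (n - i), List.ofFn fun i => (R.α k i, R.pair (R.simple i) k))
/-- The word `w` has the value `g`. -/
def Rep (C : ChevSys R F G) (w : List V) (g : G) : Prop := ∃ l : List Φ, w = l.map (vec R) ∧ g = C.xL l

theorem dt_ofFn {n : ℕ} (a b : Fin n → ℤ × ℤ) : dt (List.ofFn a) (List.ofFn b) = ∑ i, (a i).1 * (b i).2 := by
  induction n with
  | zero => rfl
  | succ n ih => rw [List.ofFn_succ, List.ofFn_succ, Fin.sum_univ_succ, ← ih]; rfl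
theorem ad_ofFn {n : ℕ} (a b : Fin n → ℤ × ℤ) : ad (List.ofFn a) (List.ofFn b) = List.ofFn (a + b) := by
  induction n with
  | zero => rfl
  | succ n ih => rw [List.ofFn_succ, List.ofFn_succ, List.ofFn_succ]; exact congrArg _ (ih _ _)
theorem hv_ofFn {n : ℕ} (c : ℤ) (a : Fin n → ℤ × ℤ) : hv (c, List.ofFn a) = ∑ i, (a i).1 := by
  induction n with
  | zero => rfl
  | succ n ih => rw [List.ofFn_succ, Fin.sum_univ_succ, ← ih]; rfl
theorem hv_vec (k : Φ) : hv (vec R k) = R.ht k := hv_ofFn _ _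
theorem vec_inj : Function.Injective (vec R) := fun _ _ e =>
  R.α_inj (funext fun i => congrArg Prod.fst (congrFun (List.ofFn_injective (congrArg Prod.snd e)) i))
theorem va_vec {k : Φ} (h : R.α k = R.α a + R.α b) : va (vec R a) (vec R b) = vec R k := Prod.ext
  (by simp [va, vec, h, add_mul, Finset.sum_add_distrib]) ((ad_ofFn _ _).trans (congrArg _ (funext fun i => by simp [h, padd h])))

theorem xL_cons (a : Φ) (l : List Φ) : C.xL (a :: l) = C.x a 1 * C.xL l := wp_cons _ a l

namespace Rep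
theorem uniq (p : Rep C w g) (q : Rep C w g') : g = g' := by
  obtain ⟨l, e, rfl⟩ := p
  obtain ⟨l', e', rfl⟩ := q
  rw [List.map_injective_iff.2 vec_inj (e.symm.trans e')]
theorem nil : Rep C [] 1 := ⟨[], rfl, rfl⟩
theorem cons (p : Rep C w g) (a : Φ) : Rep C (vec R a :: w) (C.x a 1 * g) := let ⟨l, e, e'⟩ := p; ⟨a :: l, e ▸ rfl, e' ▸ (xL_cons a l).symm⟩
theorem app (p : Rep C w g) (q : Rep C w' g') : Rep C (w ++ w') (g * g') := by
  obtain ⟨l, rfl, rfl⟩ := p
  obtain ⟨l', rfl, rfl⟩ := q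
  exact ⟨l ++ l', (List.map_append ..).symm, (wp_append ..).symm⟩
theorem ind {P : List V → G → Prop} (p : Rep C w g) (h0 : P [] 1) (h : ∀ a w g, Rep C w g → P w g → P (vec R a :: w) (C.x a 1 * g)) : P w g := by
  obtain ⟨l, rfl, rfl⟩ := p
  induction l with
  | nil => exact h0
  | cons a l ih => exact (xL_cons (C := C) a l).symm ▸ h a _ _ ⟨l, rfl, rfl⟩ ih
theorem rev (p : Rep C w g) : Rep C w.reverse g⁻¹ := p.ind (P := fun w g => Rep C w.reverse g⁻¹) (by simpa using nil) fun a w g _ q => by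
  simpa [xi] using q.app (nil.cons a)
theorem mem {K : Subgroup G} (p : Rep C w g) (h : ∀ a, vec R a ∈ w → C.x a 1 ∈ K) : g ∈ K :=
  p.ind (P := fun w g => (∀ a, vec R a ∈ w → C.x a 1 ∈ K) → g ∈ K) (fun _ => one_mem _)
    (fun a _ _ _ ih h => mul_mem (h a (by simp)) (ih fun b m => h b (by simp [m]))) h
theorem grp (p : Rep C w g) : g ∈ C.grp := p.mem fun a _ => C.x_mem_grp a 1
theorem map {f : ℕ → V} {φ : ℕ → Φ} (hf : ∀ k, f k = vec R (φ k)) (l : List ℕ) : Rep C (l.map f) (C.xL (l.map φ)) :=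
  ⟨l.map φ, by rw [List.map_map, funext hf]; rfl, rfl⟩
end Rep

variable (r : Rt R θ i₀ 1) (l : La C)
include r

theorem dt_vec (a b : Φ) : dt (vec R a).2 (vec R b).2 = R.pair a b := by
  rw [r.sym, R.pair_eq_sum']; exact (dt_ofFn _ _).trans (Finset.sum_congr rfl fun i _ => by rw [r.sym b])

include l

theorem ins_rep (k : ℕ) (a : Φ) (p : Rep C w g) : Rep C (ins k (vec R a) w) (C.x a 1 * g) := by
  induction k generalizing a w g with
  | zero => exact p.cons a
  | succ k ih =>
    refine p.ind (P := fun w g => Rep C (ins (k + 1) (vec R a) w) (C.x a 1 * g)) (Rep.nil.cons a) fun b w g q _ => ?_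
    change Rep C (cond _ _ (cond (decide (0 ≤ dt _ _)) (cond (decide (vec R a = vec R b)) w (_ :: ins k _ w))
      (cond (decide (dt _ _ = -1)) (_ :: ins k _ (ins k _ w)) _))) _
    rw [dt_vec r]
    simp only [Bool.cond_decide]
    split_ifs with _ h1 h2 h3
    · exact (q.cons b).cons a
    · rwa [vec_inj h2, ← mul_assoc, xx, one_mul]
    · rw [← mul_assoc, (r.commute h1 1 1).eq, mul_assoc]; exact (ih a q).cons b
    · have e := r.add h3
      have := (ih a (ih (R.refl a b) q)).cons b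
      rw [← va_vec e] at this
      convert this using 1
      have c := pair_ab r e
      rw [← mul_assoc, eq_mul_of_mul_inv_eq (xcj l e 1 1), mul_one, (r.commute (C := C) (by omega : 0 ≤ R.pair (R.refl a b) b) 1 1).eq, mul_assoc (C.x b 1),
        (r.commute (C := C) (by omega : 0 ≤ R.pair (R.refl a b) a) 1 1).eq]
      simp only [mul_assoc]
    · exact (q.cons b).cons a
theorem nf_rep (p : Rep C w g) : Rep C (nf w) g := p.ind (P := fun w g => Rep C (nf w) g) Rep.nil fun a _ _ _ q => ins_rep r l 64 a q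
theorem ps_rep (j : Φ) (p : Rep C w g) (e : ps (vec R j) w = some w') : Rep C w' (C.x j 1 * g * (C.x j 1)⁻¹) := by
  revert w'
  refine p.ind (P := fun w g => ∀ {w'}, ps (vec R j) w = some w' → Rep C w' (C.x j 1 * g * (C.x j 1)⁻¹))
    (fun e => by cases e; simpa using Rep.nil) fun b w g _ ih w' e => ?_
  change cond (decide (0 ≤ dt _ _)) ((ps _ w).map _) (cond (decide (dt _ _ = -1)) ((ps _ w).map _) none) = _ at e
  rw [dt_vec r] at e
  simp only [Bool.cond_decide] at e
  rw [← conj_mul]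
  split_ifs at e with h1 h2 <;> obtain ⟨u, e1, rfl⟩ := Option.map_eq_some_iff.1 e
  · rw [(r.commute h1 1 1).eq, mul_inv_cancel_right]; exact ins_rep r l _ b (ih e1)
  · rw [xcj l (r.add h2), va_vec (r.add h2), mul_one, mul_assoc]; exact ins_rep r l _ _ (ins_rep r l _ b (ih e1))
theorem cj_rep (q : Rep C v h) (p : Rep C w g) (e : cj v w = some w') : Rep C w' (h * g * h⁻¹) := by
  revert w'
  refine q.ind (P := fun v h => ∀ {w'}, cj v w = some w' → Rep C w' (h * g * h⁻¹)) (fun e => by cases e; simpa using nf_rep r l p) fun j v h _ ih w' e => ?_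
  obtain ⟨u, e1, e2⟩ := Option.bind_eq_some_iff.1 e
  simpa only [mul_inv_rev, mul_assoc] using ps_rep r l j (ih e1) e2
theorem ce_eq (q : Rep C v h) (p : Rep C w g) (p' : Rep C w' g') (e : ce v w w' = true) : h * g * h⁻¹ = g' :=
  (cj_rep r l q p (of_decide_eq_true e)).uniq (nf_rep r l p')
theorem cm_rep (p : Rep C w g) (q : Rep C v h) (e : cm w v = some w') : Rep C w' ⁅g, h⁆ := by
  obtain ⟨u, e1, rfl⟩ := Option.map_eq_some_iff.1 e
  simpa only [commutatorElement_def, mul_assoc] using nf_rep r l (p.app (cj_rep r l q p.rev e1))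

variable {f : ℕ → V} {φ : ℕ → Φ} (hf : ∀ k, f k = vec R (φ k)) {N : Subgroup G} {L : List (List V)}
include hf

theorem step_ok (p : Rep C v g) (T : T3c (C.grp ⊓ 𝐂[g]) N) (hL : ∀ w ∈ L, ∃ y ∈ N, Rep C w y) {x : Ins} (e : step f v L x = some w) : ∃ y ∈ N, Rep C w y := by
  have X : ∀ k : List ℕ, ce (k.map f) v v = true → C.xL (k.map φ) ∈ C.grp ⊓ 𝐂[g] := fun k e =>
    ⟨(Rep.map hf k).grp, mem_centralizer_singleton_iff.2 (eq_mul_of_mul_inv_eq (ce_eq r l (Rep.map hf k) p p e))⟩
  have D : ∀ i, ∃ y ∈ N, Rep C (L.getD i []) y := fun i => by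
    rw [List.getD_eq_getElem?_getD]
    rcases e : L[i]? with _ | w
    exacts [⟨1, one_mem _, Rep.nil⟩, hL w (List.mem_of_getElem? e)]
  rcases x with ⟨a, k, h⟩ | ⟨k, i⟩ | ⟨k, i⟩ | ⟨i, j⟩
  · obtain ⟨b, e1, e2⟩ := Option.bind_eq_some_iff.1 e
    rw [Bool.cond_eq_ite] at e2
    split_ifs at e2 with c
    cases e2
    simp only [Bool.and_eq_true] at c
    have q := Rep.map (C := C) hf a
    exact ⟨_, T.t3 _ (X a c.1.1.1.1) _ (X k c.1.1.1.2) _ (X h c.1.1.2) (by simpa using ce_eq r l Rep.nil (q.app q) Rep.nil c.1.2)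
      (ce_eq r l (Rep.map hf h) q (q.app (cj_rep r l (Rep.map hf k) q e1)) c.2), q⟩
  · obtain ⟨y, hy, q⟩ := D i
    rw [step, Bool.cond_eq_ite] at e
    split_ifs at e with c
    exact ⟨_, T.nm _ (X k c) y hy, cj_rep r l (Rep.map hf k) q e⟩
  · obtain ⟨y, hy, q⟩ := D i
    rw [step, Bool.cond_eq_ite] at e
    split_ifs at e with c
    obtain ⟨u, e1, rfl⟩ := Option.map_eq_some_iff.1 e
    exact ⟨_, mul_mem (T.nm _ (X k c) y hy) (inv_mem hy), nf_rep r l ((cj_rep r l (Rep.map hf k) q e1).app q.rev)⟩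
  · obtain ⟨y, hy, q⟩ := D i
    obtain ⟨y', hy', q'⟩ := D j
    cases e
    exact ⟨_, mul_mem hy hy', nf_rep r l (q.app q')⟩
theorem run_ok (p : Rep C v g) (T : T3c (C.grp ⊓ 𝐂[g]) N) {P : List Ins} (e : run f v P = some L) : ∀ w ∈ L, ∃ y ∈ N, Rep C w y := by
  induction P using List.reverseRecOn generalizing L with
  | nil => cases e; simp
  | append_singleton P x ih =>
    rw [run, List.foldl_append] at e
    obtain ⟨L', e1, e2⟩ := Option.bind_eq_some_iff.1 e
    obtain ⟨w, e3, rfl⟩ := Option.map_eq_some_iff.1 e2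
    exact List.forall_mem_append.2 ⟨ih e1, List.forall_mem_singleton.2 (step_ok r l hf p T (ih e1) e3)⟩
theorem chk_ok {k : ℕ} (hθ : φ k = θ) {a b : ℤ} {c : Cls} (e : chk f k a b c = true) :
    ∃ y ∈ C.grp, y * C.xL (c.u0.map φ) * y⁻¹ ∈ Fl C b ∧ Gd C θ a (y * C.xL (c.u0.map φ) * y⁻¹) := by
  simp only [chk, Bool.and_eq_true, List.all_eq_true, decide_eq_true_eq] at e
  obtain ⟨⟨⟨⟨e1, e2⟩, e3⟩, e4⟩, e5⟩ := e
  have u := Rep.map (C := C) hf c.u
  have z : Rep C [f k] (C.x θ 1) := by simpa [hf, hθ] using (Rep.nil (C := C)).cons θ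
  refine ⟨_, (Rep.map hf c.g0).grp, ?_⟩
  rw [ce_eq r l (Rep.map hf c.g0) (Rep.map hf c.u0) u e1]
  refine ⟨u.mem fun a m => ?_, ⟨_, (Rep.map hf c.m).grp, ce_eq r l (Rep.map hf c.m) u (u.app z) e2⟩, fun N T => ?_⟩
  · obtain ⟨j, m, e⟩ := List.mem_map.1 m
    have := e3 j m
    rw [e, hv_vec] at this
    exact C.x_mem (by exact ⟨RootSys.isPos_iff_ht.2 this.1, this.2⟩) 1
  rcases e : run f (c.u.map f) c.p with _ | L <;> rw [e] at e5
  · cases e5
  simp only [Option.map_some, Option.getD_some, Bool.and_eq_true, List.all_eq_true, decide_eq_true_eq] at e5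
  have D : ∀ i, ∃ y ∈ N, Rep C (L.getD i []) y := fun i => by
    rw [List.getD_eq_getElem?_getD]
    rcases e' : L[i]? with _ | w
    exacts [⟨1, one_mem _, Rep.nil⟩, run_ok r l hf u T e w (List.mem_of_getElem? e')]
  choose y hy q using D
  refine ⟨y c.v, c.ys.map y, fun _ m => ?_, by simpa using e4, ?_⟩
  · obtain ⟨i, m', rfl⟩ := List.mem_map.1 (show _ ∈ (c.v :: c.ys).map y from m)
    exact ⟨hy i, (q i).mem fun a h => C.x_mem_U (RootSys.isPos_iff_ht.2 (hv_vec (R := R) a ▸ e5.1 i m' _ h)) 1⟩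
  have key : ∀ (ys : List ℕ) {w w' : List V} {g : G}, Rep C w g → ys.foldl (fun o i => o.bind fun a => cm a (L.getD i [])) (some w) = some w' →
      Rep C w' (itc g (ys.map y)) := fun ys => by
    induction ys using List.reverseRecOn with
    | nil => intro w w' g p e; cases e; exact p
    | append_singleton ys i ih =>
      intro w w' g p e
      rw [List.foldl_append] at e
      obtain ⟨u, e1, e2⟩ := Option.bind_eq_some_iff.1 e
      rw [List.map_append, itc, List.foldl_append]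
      exact cm_rep r l (ih p e1) (q i) e2
  exact (key _ (q c.v) e5.2).uniq z

end Cfsg.Lib.ES.Ck
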